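import Groth.Agent.FlatBasics.UnivHomeo
import Groth.Prelude.Def_HTop2
import Mathlib.AlgebraicGeometry.ResidueField
import Mathlib.RingTheory.RingHom.PurelyInseparable
import Mathlib.FieldTheory.IsAlgClosed.AlgebraicClosure
import Mathlib.RingTheory.Ideal.GoingUp
import Mathlib.RingTheory.IntegralClosure.Algebra.Basic

/-!
Universal homeomorphisms between affine schemes in terms of rings, and residue fields of `Spec`.
-/

set_option autoImplicit false

universe u

open CategoryTheory AlgebraicGeometry

namespace Groth.Agent.EtaLib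

variable {A B : Type u} [CommRing A] [CommRing B]

theorem isUnivHomeo_Spec_iff (φ : A →+* B) :
    FlatMor.IsUnivHomeo (Spec.map (CommRingCat.ofHom φ)) ↔
      φ.IsIntegral ∧ Function.Surjective (PrimeSpectrum.comap φ) ∧
        ∀ (K : Type u) [Field K] (g g' : B →+* K), g.comp φ = g'.comp φ → g = g' := by
  constructor
  · intro h
    obtain ⟨-, hi, hs⟩ := (FlatBasics.isUnivHomeo_iff _).mp h
    refine ⟨IsIntegralHom.SpecMap_iff.mp (FlatBasics.isIntegralHom_of_isUnivHomeo h), hs.surj, ?_⟩
    intro K _ g g' e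
    have hiff : UniversallyInjective (Spec.map (CommRingCat.ofHom φ)) ↔
        ∀ (K : Type u) [Field K], Function.Injective (fun g : Spec (.of K) ⟶ Spec (.of B) ↦
          g ≫ Spec.map (CommRingCat.ofHom φ)) := (tfae_universallyInjective _).out 0 1
    have h2 := hiff.mp hi K
    refine congrArg CommRingCat.Hom.hom (Spec.map_injective (h2 (a₁ := Spec.map (CommRingCat.ofHom g))
      (a₂ := Spec.map (CommRingCat.ofHom g')) ?_))
    simp only [← Spec.map_comp, ← CommRingCat.ofHom_comp, e]
  · rintro ⟨hint, hs, hinj⟩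
    haveI : IsIntegralHom (Spec.map (CommRingCat.ofHom φ)) := IsIntegralHom.SpecMap_iff.mpr hint
    haveI : Surjective (Spec.map (CommRingCat.ofHom φ)) := ⟨hs⟩
    haveI : UniversallyInjective (Spec.map (CommRingCat.ofHom φ)) := by
      refine ((tfae_universallyInjective _).out 0 1).mpr ?_
      intro K _ a b hab
      obtain ⟨a', rfl⟩ := Spec.map_surjective a
      obtain ⟨b', rfl⟩ := Spec.map_surjective b
      simp only [← Spec.map_comp] at hab
      congr 1
      exact CommRingCat.hom_ext (hinj K a'.hom b'.hom (congrArg CommRingCat.Hom.hom (Spec.map_injective hab)))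
    exact FlatBasics.isUnivHomeo_of

lemma residueFieldMap_Spec (φ : A →+* B) (Q : PrimeSpectrum B) :
    (Scheme.Spec.residueFieldIso (CommRingCat.of A) (PrimeSpectrum.comap φ Q)).inv ≫
      (Spec.map (CommRingCat.ofHom φ)).residueFieldMap Q ≫
      (Scheme.Spec.residueFieldIso (CommRingCat.of B) Q).hom =
      CommRingCat.ofHom (Ideal.ResidueField.map (PrimeSpectrum.comap φ Q).asIdeal Q.asIdeal φ rfl) := by
  refine CommRingCat.hom_ext (Ideal.ResidueField.ringHom_ext ?_)
  obtain ⟨iA, hiA⟩ : ∃ i, i = (Scheme.Spec.residueFieldIso (CommRingCat.of A) (PrimeSpectrum.comap φ Q)).inv :=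
    ⟨_, rfl⟩
  have h0 : CommRingCat.ofHom (algebraMap A (PrimeSpectrum.comap φ Q).asIdeal.ResidueField) ≫ iA ≫
      (Spec.map (CommRingCat.ofHom φ)).residueFieldMap Q =
      CommRingCat.ofHom φ ≫ CommRingCat.ofHom (algebraMap B Q.asIdeal.ResidueField) ≫
        (Scheme.Spec.residueFieldIso (CommRingCat.of B) Q).inv := by
    apply Spec.map_injective
    have h2 := (Spec.map (CommRingCat.ofHom φ)).SpecMap_residueFieldMap_fromSpecResidueField Q
    have hA := Scheme.Spec.map_residueFieldIso_inv_eq_fromSpecResidueField (CommRingCat.of A)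
      (PrimeSpectrum.comap φ Q)
    have hB := Scheme.Spec.map_residueFieldIso_inv_eq_fromSpecResidueField (CommRingCat.of B) Q
    rw [← hiA] at hA
    simp only [Spec.map_comp, Category.assoc]
    rw [hA]
    refine h2.trans ?_
    rw [← hB, Category.assoc]
  rw [← hiA]
  have h1 : CommRingCat.ofHom (algebraMap A (PrimeSpectrum.comap φ Q).asIdeal.ResidueField) ≫
      (iA ≫ (Spec.map (CommRingCat.ofHom φ)).residueFieldMap Q ≫
      (Scheme.Spec.residueFieldIso (CommRingCat.of B) Q).hom) =
      CommRingCat.ofHom φ ≫ CommRingCat.ofHom (algebraMap B Q.asIdeal.ResidueField) := by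
    have := h0 =≫ (Scheme.Spec.residueFieldIso (CommRingCat.of B) Q).hom
    simp only [Category.assoc, Iso.inv_hom_id, Category.comp_id] at this
    exact this
  refine (congrArg CommRingCat.Hom.hom h1).trans (RingHom.ext fun a => ?_)
  exact (Ideal.ResidueField.map_algebraMap _ _ φ rfl a).symm

theorem residueFieldsIso_Spec_iff (φ : A →+* B) :
    HTop.ResidueFieldsIso (Spec.map (CommRingCat.ofHom φ)) ↔
      ∀ Q : PrimeSpectrum B,
        Function.Bijective (Ideal.ResidueField.map (PrimeSpectrum.comap φ Q).asIdeal Q.asIdeal φ rfl) := by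
  refine forall_congr' fun Q => ?_
  have h : IsIso ((Spec.map (CommRingCat.ofHom φ)).residueFieldMap Q) ↔
      IsIso (CommRingCat.ofHom (Ideal.ResidueField.map (PrimeSpectrum.comap φ Q).asIdeal Q.asIdeal φ rfl)) := by
    rw [← residueFieldMap_Spec]
    exact ((isIso_comp_left_iff _ _).trans (isIso_comp_right_iff _ _)).symm
  exact h.trans (ConcreteCategory.isIso_iff_bijective _)

theorem pow_mem_of_isUnivHomeo (φ : A →+* B) (h : FlatMor.IsUnivHomeo (Spec.map (CommRingCat.ofHom φ)))
    (Q : PrimeSpectrum B) (x : Q.asIdeal.ResidueField) :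
    ∃ n : ℕ, x ^ ringExpChar (PrimeSpectrum.comap φ Q).asIdeal.ResidueField ^ n ∈
      Set.range (Ideal.ResidueField.map (PrimeSpectrum.comap φ Q).asIdeal Q.asIdeal φ rfl) := by
  have hi := ((FlatBasics.isUnivHomeo_iff _).mp h).2.1
  have hiff : UniversallyInjective (Spec.map (CommRingCat.ofHom φ)) ↔
      Function.Injective (Spec.map (CommRingCat.ofHom φ)) ∧
        ∀ y, ((Spec.map (CommRingCat.ofHom φ)).residueFieldMap y).hom.IsPurelyInseparable :=
    (tfae_universallyInjective _).out 0 2
  have hpi := (hiff.mp hi).2 Q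
  letI := ((Spec.map (CommRingCat.ofHom φ)).residueFieldMap Q).hom.toAlgebra
  have hpi' : IsPurelyInseparable ((Spec (CommRingCat.of A)).residueField (Spec.map (CommRingCat.ofHom φ) Q))
      ((Spec (CommRingCat.of B)).residueField Q) := hpi
  let eA := (Scheme.Spec.residueFieldIso (CommRingCat.of A) (PrimeSpectrum.comap φ Q)).commRingCatIsoToRingEquiv
  let eB := (Scheme.Spec.residueFieldIso (CommRingCat.of B) Q).commRingCatIsoToRingEquiv
  haveI : ExpChar (PrimeSpectrum.comap φ Q).asIdeal.ResidueField
      (ringExpChar (PrimeSpectrum.comap φ Q).asIdeal.ResidueField) := ringExpChar.expChar _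
  haveI : ExpChar ((Spec (CommRingCat.of A)).residueField (Spec.map (CommRingCat.ofHom φ) Q))
      (ringExpChar (PrimeSpectrum.comap φ Q).asIdeal.ResidueField) :=
    expChar_of_injective_ringHom (f := eA.symm.toRingHom) eA.symm.injective _
  obtain ⟨n, z, hz⟩ := IsPurelyInseparable.pow_mem
    ((Spec (CommRingCat.of A)).residueField (Spec.map (CommRingCat.ofHom φ) Q))
    (ringExpChar (PrimeSpectrum.comap φ Q).asIdeal.ResidueField) (eB.symm x)
  refine ⟨n, eA z, ?_⟩
  have h2 : Ideal.ResidueField.map (PrimeSpectrum.comap φ Q).asIdeal Q.asIdeal φ rfl (eA z) =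
      eB ((Spec.map (CommRingCat.ofHom φ)).residueFieldMap Q (eA.symm (eA z))) :=
    (RingHom.congr_fun (congrArg CommRingCat.Hom.hom (residueFieldMap_Spec φ Q)) (eA z)).symm
  rw [h2, eA.symm_apply_apply]
  refine (congrArg eB hz).trans ?_
  rw [map_pow, eB.apply_symm_apply]

/-- Points with values in an algebraically closed field extend along integral maps with surjective `Spec`. -/
theorem exists_field_extend (f : A →+* B) (hf : f.IsIntegral) (hs : Function.Surjective (PrimeSpectrum.comap f))
    {L : Type u} [Field L] [IsAlgClosed L] (g : A →+* L) : ∃ h : B →+* L, h.comp f = g := by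
  obtain ⟨Q, hQ⟩ := hs ⟨RingHom.ker g, RingHom.ker_isPrime g⟩
  have e : (PrimeSpectrum.comap f Q).asIdeal = RingHom.ker g := congrArg PrimeSpectrum.asIdeal hQ
  let gk : (PrimeSpectrum.comap f Q).asIdeal.ResidueField →+* L := Ideal.ResidueField.lift _ g
    (fun a ha => by rw [e] at ha; exact ha)
    (fun a ha => by
      refine isUnit_iff_ne_zero.mpr fun h0 => ha ?_
      show a ∈ (PrimeSpectrum.comap f Q).asIdeal
      rw [e]; exact h0)
  letI := gk.toAlgebra
  let r := Ideal.ResidueField.map (PrimeSpectrum.comap f Q).asIdeal Q.asIdeal f rfl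
  letI := r.toAlgebra
  haveI : Algebra.IsAlgebraic (PrimeSpectrum.comap f Q).asIdeal.ResidueField Q.asIdeal.ResidueField := by
    refine ⟨fun y => ?_⟩
    have hb : ∀ b : B, IsAlgebraic (PrimeSpectrum.comap f Q).asIdeal.ResidueField
        (algebraMap B Q.asIdeal.ResidueField b) := fun b => by
      obtain ⟨P, hP, hPb⟩ := hf b
      refine IsIntegral.isAlgebraic ⟨P.map (algebraMap A _), hP.map _, ?_⟩
      rw [Polynomial.eval₂_map]
      rw [show (algebraMap (PrimeSpectrum.comap f Q).asIdeal.ResidueField Q.asIdeal.ResidueField).comp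
        (algebraMap A _) = (algebraMap B Q.asIdeal.ResidueField).comp f from
        RingHom.ext fun a => Ideal.ResidueField.map_algebraMap _ _ f rfl a]
      rw [← Polynomial.hom_eval₂, hPb, map_zero]
    obtain ⟨u, w, -, rfl⟩ := IsFractionRing.div_surjective (A := B ⧸ Q.asIdeal) y
    obtain ⟨b, rfl⟩ := Ideal.Quotient.mk_surjective u
    obtain ⟨d, rfl⟩ := Ideal.Quotient.mk_surjective w
    rw [div_eq_mul_inv]
    exact ((hb b).isIntegral.mul ((hb d).inv.isIntegral)).isAlgebraic
  let h' : Q.asIdeal.ResidueField →ₐ[(PrimeSpectrum.comap f Q).asIdeal.ResidueField] L := IsAlgClosed.lift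
  refine ⟨h'.toRingHom.comp (algebraMap B _), RingHom.ext fun a => ?_⟩
  have := h'.commutes (algebraMap A _ a)
  rw [RingHom.comp_apply, RingHom.comp_apply]
  rw [show algebraMap B Q.asIdeal.ResidueField (f a) =
    algebraMap (PrimeSpectrum.comap f Q).asIdeal.ResidueField Q.asIdeal.ResidueField (algebraMap A _ a) from
    (Ideal.ResidueField.map_algebraMap (PrimeSpectrum.comap f Q).asIdeal Q.asIdeal f rfl a).symm]
  exact this.trans (Ideal.ResidueField.lift_algebraMap _ _ _ _ a)

end Groth.Agent.EtaLib
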