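import Groth.Agent.EtaLib.Rel
import Mathlib.RingTheory.Localization.Away.Basic
import Mathlib.RingTheory.Localization.Integral
import Mathlib.RingTheory.Ideal.MinimalPrime.Localization

/-!
Compatibility of the pointwise ring with localization at an element.
-/

set_option autoImplicit false

universe u

open EtaPt

namespace Groth.Agent.EtaLib

variable (η : FieldEndo.{u}) {A B S : Type u} [CommRing A] [CommRing B] [CommRing S]

lemma eq_of_away [Algebra A S] (f : A) [IsLocalization.Away f S] {u v : η.N A}
    (h : η.Nmap (algebraMap A S) u = η.Nmap (algebraMap A S) v) : u * η.t A f = v * η.t A f :=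
  funext fun P => by
    by_cases hP : f ∈ P.asIdeal
    · have h0 : η.t A f P = 0 := by
        show η.eta _ (algebraMap A _ f) = 0
        rw [Ideal.algebraMap_residueField_eq_zero.mpr hP, map_zero]
      rw [Pi.mul_apply, Pi.mul_apply, h0, mul_zero, mul_zero]
    · obtain ⟨Q, rfl⟩ : P ∈ Set.range (PrimeSpectrum.comap (algebraMap A S)) := by
        rw [PrimeSpectrum.localization_away_comap_range S f]; exact hP
      have e : u (PrimeSpectrum.comap (algebraMap A S) Q) = v (PrimeSpectrum.comap (algebraMap A S) Q) :=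
        (η.map _).injective (congrFun h Q)
      rw [Pi.mul_apply, Pi.mul_apply, e]

lemma exists_Nmap_eq [Algebra A S] (f : A) [IsLocalization.Away f S] (y : η.N S) :
    ∃ x, η.Nmap (algebraMap A S) x = y :=
  Nmap_surjective_of η _ (PrimeSpectrum.localization_comap_injective S (Submonoid.powers f))
    (bijective_map_residue_away η (Submonoid.powers f)) y

lemma minimalPrimes_finite_away [Algebra A S] (f : A) [IsLocalization.Away f S] (hA : (minimalPrimes A).Finite) :
    (minimalPrimes S).Finite := by
  refine Set.Finite.of_finite_image (f := Ideal.comap (algebraMap A S)) (hA.subset ?_)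
    fun p _ q _ h => ?_
  · rintro _ ⟨p, hp, rfl⟩
    haveI := hp.1.1
    refine ⟨⟨inferInstance, bot_le⟩, fun r hr hle => ?_⟩
    haveI := hr.1
    have hd : Disjoint (Submonoid.powers f : Set A) r := Set.disjoint_left.mpr fun s hs hsr =>
      ((IsLocalization.isPrime_iff_isPrime_disjoint (Submonoid.powers f) S p).mp hp.1.1).2.ne_of_mem hs
        (hle hsr) rfl
    have h1 : r.map (algebraMap A S) ≤ p :=
      (Ideal.map_mono hle).trans (IsLocalization.map_under (Submonoid.powers f) S p).le
    have h2 := hp.2 ⟨IsLocalization.isPrime_of_isPrime_disjoint (Submonoid.powers f) S r inferInstance hd, bot_le⟩ h1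
    calc p.comap (algebraMap A S) ≤ (r.map (algebraMap A S)).comap (algebraMap A S) := Ideal.comap_mono h2
      _ = r := IsLocalization.under_map_of_isPrime_disjoint (Submonoid.powers f) S inferInstance hd
  · rw [← IsLocalization.map_under (Submonoid.powers f) S p, ← IsLocalization.map_under (Submonoid.powers f) S q]
    exact congrArg (Ideal.map _) h

/-- Elements of `M` of a localization at `f` extend to `M A` after multiplying by a power of `f`. -/
theorem exists_mem_M_away [Algebra A S] (f : A) [IsLocalization.Away f S] (hA : (minimalPrimes A).Finite)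
    {y : η.N S} (hy : y ∈ η.M S) :
    ∃ x ∈ η.M A, ∃ n : ℕ, y * η.t S (algebraMap A S f) ^ n = η.Nmap (algebraMap A S) x := by
  obtain ⟨z, hz⟩ := exists_Nmap_eq η f y
  letI : Algebra S (η.M S) := (η.q S).toAlgebra
  letI : Algebra A (η.M S) := ((η.q S).comp (algebraMap A S)).toAlgebra
  haveI : IsScalarTower A S (η.M S) := IsScalarTower.of_algebraMap_eq fun _ => rfl
  have hint : IsIntegral S (⟨y, hy⟩ : η.M S) := isIntegral_q η (minimalPrimes_finite_away f hA) _
  obtain ⟨⟨_, m, rfl⟩, H, hH, hH0⟩ := hint.exists_multiple_integral_of_isLocalization (Submonoid.powers f) _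
  have hH1 : Polynomial.eval₂ ((η.q S).comp (algebraMap A S)) ((η.q S (algebraMap A S (f ^ m))) * ⟨y, hy⟩) H = 0 := hH0
  refine ⟨z * η.t A f ^ (m + 1), ?_, m + 1, by rw [map_mul, map_pow, hz, η.Nmap_t_apply]⟩
  rw [mem_M_iff]
  intro R _ _ _ hR g
  let L := FractionRing R
  have hRL : Function.Injective (algebraMap R L) := IsFractionRing.injective R L
  by_cases hgf : g f = 0
  · refine ⟨0, fun q => ?_⟩
    rw [map_mul, map_pow, ev_t, RingHom.comp_apply, hgf]
    simp
  let gK : A →+* L := (algebraMap R L).comp g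
  have hu : IsUnit (gK f) := isUnit_iff_ne_zero.mpr fun e => hgf (hRL (e.trans (map_zero _).symm))
  let gf : S →+* L := IsLocalization.Away.lift f hu
  have hgfc : gf.comp (algebraMap A S) = gK := IsLocalization.Away.lift_comp f hu
  let θ : η.M S →+* L :=
    (RingEquiv.ofBijective _ hR).symm.toRingHom.comp ((ev η gf).comp (η.M S).subtype)
  have hθ : θ.comp (η.q S) = gf := RingHom.ext fun a => (RingEquiv.ofBijective _ hR).injective (by
    show (RingEquiv.ofBijective _ hR) ((RingEquiv.ofBijective _ hR).symm (ev η gf (η.t S a))) = _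
    rw [RingEquiv.apply_symm_apply, ev_t]; rfl)
  obtain ⟨y0, hy0⟩ := hR.2 (ev η gf y)
  have hθy : θ ⟨y, hy⟩ = y0 := (RingEquiv.ofBijective _ hR).injective
    ((RingEquiv.apply_symm_apply _ _).trans hy0.symm)
  obtain ⟨w, hw⟩ : ∃ w : R, algebraMap R L w = gK f ^ m * y0 := by
    refine IsIntegrallyClosed.algebraMap_eq_of_integral ⟨H.map g, hH.map g, ?_⟩
    have := congrArg θ hH1
    rw [Polynomial.hom_eval₂, map_zero, map_mul, hθy, ← RingHom.comp_assoc, hθ, hgfc] at this
    rw [Polynomial.eval₂_map, show gK f ^ m = θ (η.q S (algebraMap A S (f ^ m))) from ?_]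
    · exact this
    · rw [← RingHom.comp_apply θ (η.q S), hθ, ← RingHom.comp_apply gf, hgfc, map_pow]
  refine ⟨g f * w, fun q => ?_⟩
  obtain ⟨V, g', hg', hq⟩ := exists_centre (algebraMap R L) q (fun a ha => by
    rw [hRL (ha.trans (map_zero _).symm : algebraMap R L a = algebraMap R L 0)]; exact zero_mem _)
  let k := IsLocalRing.ResidueField V
  let res : R →+* k := (IsLocalRing.residue V).comp g'
  have hker : RingHom.ker res = q.asIdeal := by rw [← RingHom.comap_ker, IsLocalRing.ker_residue, hq]
  let ι : q.asIdeal.ResidueField →+* k := Ideal.ResidueField.lift _ res hker.ge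
    fun a ha => isUnit_iff_ne_zero.mpr fun e => ha (hker.le e)
  have hι : ι.comp (algebraMap R q.asIdeal.ResidueField) = res :=
    RingHom.ext fun a => by simp [ι]
  refine (η.map ι).injective ?_
  rw [map_eta_apply, ← ev_field, ← RingHom.comp_assoc, ← RingHom.comp_apply ι, hι, map_mul, map_pow, ev_t,
    map_mul]
  by_cases hf0 : res (g f) = 0
  · rw [RingHom.comp_apply, hf0]; simp
  have hu' : IsUnit (g' (g f)) := IsLocalRing.notMem_maximalIdeal.mp fun e =>
    hf0 ((IsLocalRing.residue_eq_zero_iff _).mpr e)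
  let hl : S →+* V := IsLocalization.Away.lift (g := g'.comp g) f hu'
  have hlc : hl.comp (algebraMap A S) = g'.comp g := IsLocalization.Away.lift_comp f hu'
  obtain ⟨r', hr'⟩ := M_spec η hy V (inV_of_bijective η V L hR) hl
  have hl' : V.subtype.comp hl = gf := IsLocalization.ringHom_ext (Submonoid.powers f) (by
    rw [RingHom.comp_assoc, hlc, ← RingHom.comp_assoc, hg', hgfc])
  have hr0 := hr' L V.subtype
  rw [hl'] at hr0
  have hry : (r' : L) = y0 := hR.1 (hr0.symm.trans hy0.symm)
  have hw' : g' w = g' (g f) ^ m * r' := Subtype.ext (by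
    show V.subtype (g' w) = V.subtype (g' (g f) ^ m * r')
    rw [map_mul, map_pow, ← RingHom.comp_apply, ← RingHom.comp_apply, hg', hw]
    show _ = _ * (r' : L)
    rw [hry]; rfl)
  have hz' : ev η (res.comp g) z = η.eta k (IsLocalRing.residue V r') := by
    rw [RingHom.comp_assoc, ← hlc, ← RingHom.comp_assoc, ← ev_Nmap, hz]
    exact hr' k _
  rw [hz', map_mul (η.eta k), show res w = res (g f) ^ m * IsLocalRing.residue V r' by
    show IsLocalRing.residue V (g' w) = _
    rw [hw', map_mul, map_pow]; rfl, map_mul, map_pow, RingHom.comp_apply]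
  ring

/-- Localization of the relative ring. -/
theorem exists_rel_away (hA : (minimalPrimes A).Finite) (φ : A →+* B) (f : A) (y : Localization.Away (φ f))
    (hy : y ∈ η.rel (Localization.awayMap φ f)) :
    ∃ x ∈ η.rel φ, ∃ n : ℕ,
      y * algebraMap B (Localization.Away (φ f)) (φ f) ^ n = algebraMap B (Localization.Away (φ f)) x := by
  obtain ⟨X, hX, hXy⟩ := (mem_rel_iff η _ _).mp hy
  obtain ⟨x, hx, n, hn⟩ := exists_mem_M_away η f hA hX
  obtain ⟨k, b, hb⟩ := IsLocalization.Away.surj (φ f) y
  have hc : (Localization.awayMap φ f).comp (algebraMap A (Localization.Away f)) =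
      (algebraMap B (Localization.Away (φ f))).comp φ := IsLocalization.map_comp _
  refine ⟨b * φ f ^ (n + 1), (mem_rel_iff η _ _).mpr ⟨x * η.t A f ^ (k + 1),
    Subring.mul_mem _ hx (Subring.pow_mem _ (η.t_mem_M A f) _), ?_⟩, k + (n + 1), ?_⟩
  · have key : η.Nmap (algebraMap B (Localization.Away (φ f))) (η.Nmap φ (x * η.t A f ^ k)) =
        η.Nmap (algebraMap B (Localization.Away (φ f))) (η.t B (b * φ f ^ n)) := by
      rw [Nmap_comp, ← hc, ← Nmap_comp, map_mul, map_pow, η.Nmap_t_apply, ← hn, η.Nmap_t_apply, map_mul, map_mul,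
        map_pow, map_pow, hXy, η.Nmap_t_apply, map_mul, map_pow, ← hb, map_mul, map_pow, map_mul, map_pow]
      rw [show Localization.awayMap φ f (algebraMap A _ f) = algebraMap B _ (φ f) from RingHom.congr_fun hc f]
      ring
    have h2 := eq_of_away η (φ f) key
    rw [pow_succ, ← mul_assoc, map_mul, η.Nmap_t_apply, h2, ← map_mul, pow_succ, mul_assoc]
  · rw [map_mul, map_pow, ← hb]
    ring

end Groth.Agent.EtaLib
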