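import Groth.Prelude.Def_W4c1chowmix47Eta
import Mathlib.RingTheory.Valuation.LocalSubring
import Mathlib.RingTheory.Ideal.MinimalPrime.Basic
import Mathlib.RingTheory.IntegralClosure.IsIntegralClosure.Basic
import Mathlib.Algebra.CharP.Reduced
import Mathlib.Algebra.CharP.Algebra
import Mathlib.FieldTheory.Perfect
import Mathlib.FieldTheory.IsAlgClosed.Basic
import Mathlib.RingTheory.Bezout
import Mathlib.Algebra.GCDMonoid.IntegrallyClosed

/-!
Basic theory of the pointwise ring `M η A` attached to an endofunctor of fields.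
-/

set_option autoImplicit false

universe u

open EtaPt

namespace Groth.Agent.EtaLib

variable (η : FieldEndo.{u})

section Endo

/-- Ring homs of fields in the same exponential characteristic: powers cancel. -/
lemma pow_cancel {K L : Type u} [Field K] [Field L] (f : K →+* L) (n : ℕ) {x y : L}
    (h : x ^ ringExpChar K ^ n = y ^ ringExpChar K ^ n) : x = y := by
  haveI : ExpChar L (ringExpChar K) := expChar_of_injective_ringHom f.injective _
  exact iterateFrobenius_inj L (ringExpChar K) n (by simpa [iterateFrobenius_def] using h)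

lemma eta_ext {K L : Type u} [Field K] [Field L] (f g : η.obj K →+* L)
    (h : f.comp (η.eta K) = g.comp (η.eta K)) : f = g := by
  ext x
  obtain ⟨n, c, hc⟩ := η.exists_pow_mem_range_eta K x
  refine pow_cancel (f.comp (η.eta K)) n ?_
  rw [← map_pow, ← map_pow, ← hc]
  exact RingHom.congr_fun h c

lemma map_injective {K L : Type u} [Field K] [Field L] (f : K →+* L) : Function.Injective (η.map f) :=
  (η.map f).injective

lemma map_eta_apply {K L : Type u} [Field K] [Field L] (f : K →+* L) (x : K) :
    η.map f (η.eta K x) = η.eta L (f x) :=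
  RingHom.congr_fun (η.eta_natural f) x

lemma map_map {K L E : Type u} [Field K] [Field L] [Field E] (f : K →+* L) (g : L →+* E) (x : η.obj K) :
    η.map g (η.map f x) = η.map (g.comp f) x := by
  rw [η.map_comp]; rfl

lemma map_eta_eq (K : Type u) [Field K] : η.map (η.eta K) = η.eta (η.obj K) :=
  eta_ext η _ _ (η.eta_natural (η.eta K))

lemma bijective_eta_obj (K : Type u) [Field K] : Function.Bijective (η.eta (η.obj K)) := by
  rw [← map_eta_eq]; exact η.bijective_map_eta K

lemma bijective_eta_of_equiv {K L : Type u} [Field K] [Field L] (e : K ≃+* L)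
    (h : Function.Bijective (η.eta K)) : Function.Bijective (η.eta L) := by
  refine ⟨(η.eta L).injective, fun y => ?_⟩
  obtain ⟨x, hx⟩ := h.2 (η.map e.symm.toRingHom y)
  refine ⟨e x, ?_⟩
  have := map_eta_apply η e.toRingHom x
  rw [hx, map_map, show e.toRingHom.comp e.symm.toRingHom = RingHom.id L from RingHom.ext e.apply_symm_apply,
    η.map_id] at this
  exact this.symm

lemma inV_of_bijective (R : Type u) [CommRing R] [IsDomain R] (L : Type u) [Field L] [Algebra R L]
    [IsFractionRing R L] (h : Function.Bijective (η.eta L)) : η.InV R :=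
  bijective_eta_of_equiv η (FractionRing.algEquiv R L).symm.toRingEquiv h

lemma bijective_eta_of_inV (R : Type u) [CommRing R] [IsDomain R] (L : Type u) [Field L] [Algebra R L]
    [IsFractionRing R L] (h : η.InV R) : Function.Bijective (η.eta L) :=
  bijective_eta_of_equiv η (FractionRing.algEquiv R L).toRingEquiv h

lemma bijective_eta_of_perfect (K : Type u) [Field K] [PerfectField K] : Function.Bijective (η.eta K) := by
  refine ⟨(η.eta K).injective, fun y => ?_⟩
  obtain ⟨n, c, hc⟩ := η.exists_pow_mem_range_eta K y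
  haveI := ringExpChar.expChar K
  haveI : PerfectRing K (ringExpChar K) := PerfectField.toPerfectRing _
  obtain ⟨d, rfl⟩ := (bijective_iterateFrobenius K (ringExpChar K) n).2 c
  refine ⟨d, pow_cancel (η.eta K) n ?_⟩
  rw [← hc, ← map_pow]
  rfl

lemma bijective_eta_algClosed (K : Type u) [Field K] [IsAlgClosed K] : Function.Bijective (η.eta K) :=
  bijective_eta_of_perfect η K

end Endo

section Points

variable {A B : Type u} [CommRing A] [CommRing B]

/-- The point of a map to a field. -/
def pt {K : Type u} [Field K] (g : A →+* K) : PrimeSpectrum A := ⟨RingHom.ker g, RingHom.ker_isPrime g⟩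

/-- The residue field map of a point. -/
noncomputable def liftK {K : Type u} [Field K] (g : A →+* K) : (pt g).asIdeal.ResidueField →+* K :=
  Ideal.ResidueField.lift _ g le_rfl fun a ha => isUnit_iff_ne_zero.mpr ha

lemma liftK_comp {K : Type u} [Field K] (g : A →+* K) :
    (liftK g).comp (algebraMap A _) = g :=
  RingHom.ext fun a => by simp [liftK]

/-- The value of a family at a field-valued point. -/
noncomputable def ev {K : Type u} [Field K] (g : A →+* K) : η.N A →+* η.obj K :=
  (η.map (liftK g)).comp (Pi.evalRingHom (fun p : PrimeSpectrum A => η.obj p.asIdeal.ResidueField) (pt g))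

lemma ev_of_eq {K : Type u} [Field K] (g : A →+* K) (p : PrimeSpectrum A)
    (φ : p.asIdeal.ResidueField →+* K) (h : φ.comp (algebraMap A _) = g) (x : η.N A) :
    ev η g x = η.map φ (x p) := by
  obtain rfl : p = pt g := PrimeSpectrum.ext (by
    show p.asIdeal = RingHom.ker g
    rw [← h, ← RingHom.comap_ker, (RingHom.injective_iff_ker_eq_bot φ).mp φ.injective]
    exact p.asIdeal.ker_algebraMap_residueField.symm)
  obtain rfl : φ = liftK g := Ideal.ResidueField.ringHom_ext (h.trans (liftK_comp g).symm)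
  rfl

lemma ev_can (p : PrimeSpectrum A) (x : η.N A) :
    ev η (algebraMap A p.asIdeal.ResidueField) x = x p := by
  rw [ev_of_eq η _ p (RingHom.id _) (RingHom.id_comp _), η.map_id]; rfl

lemma ev_field {K L : Type u} [Field K] [Field L] (g : A →+* K) (h : K →+* L) (x : η.N A) :
    ev η (h.comp g) x = η.map h (ev η g x) := by
  rw [ev_of_eq η (h.comp g) (pt g) (h.comp (liftK g)) (by rw [RingHom.comp_assoc, liftK_comp])]
  exact (map_map η _ _ _).symm

lemma ev_t {K : Type u} [Field K] (g : A →+* K) (a : A) : ev η g (η.t A a) = η.eta K (g a) := by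
  show η.map (liftK g) (η.eta _ (algebraMap A _ a)) = _
  rw [map_eta_apply]
  exact congrArg _ (RingHom.congr_fun (liftK_comp g) a)

lemma ev_Nmap {K : Type u} [Field K] (f : A →+* B) (g : B →+* K) (x : η.N A) :
    ev η g (η.Nmap f x) = ev η (g.comp f) x := by
  rw [ev_of_eq η (g.comp f) (PrimeSpectrum.comap f (pt g))
    ((liftK g).comp (Ideal.ResidueField.map (PrimeSpectrum.comap f (pt g)).asIdeal (pt g).asIdeal f rfl))]
  · exact map_map η _ _ _
  · ext a
    simp only [RingHom.comp_apply, Ideal.ResidueField.map_algebraMap]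
    exact RingHom.congr_fun (liftK_comp g) (f a)

lemma N_ext {x y : η.N A} (h : ∀ p : PrimeSpectrum A,
    ev η (algebraMap A p.asIdeal.ResidueField) x = ev η (algebraMap A p.asIdeal.ResidueField) y) : x = y :=
  funext fun p => by simpa only [ev_can] using h p

lemma Nmap_apply (f : A →+* B) (x : η.N A) (q : PrimeSpectrum B) :
    η.Nmap f x q = η.map (Ideal.ResidueField.map (PrimeSpectrum.comap f q).asIdeal q.asIdeal f rfl)
      (x (PrimeSpectrum.comap f q)) := rfl

lemma Nmap_comp {C : Type u} [CommRing C] (f : A →+* B) (g : B →+* C) (x : η.N A) :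
    η.Nmap g (η.Nmap f x) = η.Nmap (g.comp f) x :=
  N_ext η fun p => by rw [ev_Nmap, ev_Nmap, ev_Nmap, RingHom.comp_assoc]

lemma ev_ext_of_Nmap_surjective (f : A →+* B) (hN : Function.Surjective (η.Nmap f)) {K : Type u} [Field K]
    {g g' : B →+* K} (h : g.comp f = g'.comp f) : g = g' := by
  ext b
  obtain ⟨x, hx⟩ := hN (η.t B b)
  refine (η.eta K).injective ?_
  rw [← ev_t, ← ev_t, ← hx, ev_Nmap, ev_Nmap, h]

lemma Nmap_injective (f : A →+* B) (hs : Function.Surjective (PrimeSpectrum.comap f)) :
    Function.Injective (η.Nmap f) := fun x y h => funext fun p => by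
  obtain ⟨q, rfl⟩ := hs p
  exact map_injective η _ (congrFun h q)

lemma comap_surjective_of_Nmap_injective (f : A →+* B) (h : Function.Injective (η.Nmap f)) :
    Function.Surjective (PrimeSpectrum.comap f) := fun p => by
  classical
  by_contra hp
  push Not at hp
  have : η.Nmap f (Pi.single p 1) = η.Nmap f 0 := funext fun q => by
    rw [Nmap_apply, Nmap_apply, Pi.single_eq_of_ne (hp q)]; rfl
  simpa using congrFun (h this) p

lemma comap_injective_of_Nmap_surjective (f : A →+* B) (h : Function.Surjective (η.Nmap f)) :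
    Function.Injective (PrimeSpectrum.comap f) := fun p q hpq => by
  classical
  by_contra hne
  obtain ⟨x, hx⟩ := h (Pi.single p 1)
  have h1 := congrFun hx p
  have h2 := congrFun hx q
  rw [Nmap_apply, Pi.single_eq_same] at h1
  rw [Nmap_apply, Pi.single_eq_of_ne (Ne.symm hne)] at h2
  have h3 : x (PrimeSpectrum.comap f q) = 0 := map_injective η _ (h2.trans (map_zero _).symm)
  have h4 : ∀ r r' : PrimeSpectrum A, r = r' → x r' = 0 → x r = 0 := by rintro r _ rfl h; exact h
  rw [h4 _ _ hpq h3, map_zero] at h1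
  exact zero_ne_one h1

/-- `η` factors through the residue field map iff `F` of it is bijective. -/
lemma bijective_map_of_factor {K L : Type u} [Field K] [Field L] (r : K →+* L) (φ : L →+* η.obj K)
    (h : φ.comp r = η.eta K) : Function.Bijective (η.map r) := by
  refine ⟨map_injective η r, fun y => ?_⟩
  obtain ⟨x, hx⟩ := (η.bijective_map_eta K).2 (η.map φ y)
  refine ⟨x, map_injective η φ ?_⟩
  rw [map_map, h, hx]

lemma exists_factor_of_bijective {K L : Type u} [Field K] [Field L] (r : K →+* L)
    (h : Function.Bijective (η.map r)) : ∃ φ : L →+* η.obj K, φ.comp r = η.eta K := by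
  refine ⟨(RingEquiv.ofBijective _ h).symm.toRingHom.comp (η.eta L), RingHom.ext fun x => ?_⟩
  refine (RingEquiv.ofBijective _ h).injective ?_
  simp only [RingHom.comp_apply, RingEquiv.toRingHom_eq_coe, RingEquiv.coe_toRingHom,
    RingEquiv.apply_symm_apply]
  exact (map_eta_apply η r x).symm

lemma Nmap_surjective_of (f : A →+* B) (hi : Function.Injective (PrimeSpectrum.comap f))
    (hb : ∀ q, Function.Bijective (η.map (Ideal.ResidueField.map (PrimeSpectrum.comap f q).asIdeal q.asIdeal f rfl))) :
    Function.Surjective (η.Nmap f) := fun y => by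
  classical
  choose z hz using fun q => (hb q).2 (y q)
  refine ⟨fun p => if h : ∃ q, PrimeSpectrum.comap f q = p then h.choose_spec ▸ z h.choose else 0, funext fun q => ?_⟩
  rw [Nmap_apply, dif_pos ⟨q, rfl⟩]
  have key : ∀ (q' : PrimeSpectrum B) (e : PrimeSpectrum.comap f q' = PrimeSpectrum.comap f q), q' = q →
      η.map (Ideal.ResidueField.map (PrimeSpectrum.comap f q).asIdeal q.asIdeal f rfl) (e ▸ z q') = y q := by
    rintro q' e rfl; exact hz _
  exact key _ _ (hi (⟨q, rfl⟩ : ∃ q', PrimeSpectrum.comap f q' = PrimeSpectrum.comap f q).choose_spec)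

lemma Nmap_bijective_of (f : A →+* B) (hi : Function.Bijective (PrimeSpectrum.comap f))
    (hb : ∀ q, Function.Bijective (η.map (Ideal.ResidueField.map (PrimeSpectrum.comap f q).asIdeal q.asIdeal f rfl))) :
    Function.Bijective (η.Nmap f) :=
  ⟨Nmap_injective η f hi.2, Nmap_surjective_of η f hi.1 hb⟩

lemma bijective_map_of_Nmap_bijective (f : A →+* B) (h : Function.Bijective (η.Nmap f)) (q : PrimeSpectrum B) :
    Function.Bijective (η.map (Ideal.ResidueField.map (PrimeSpectrum.comap f q).asIdeal q.asIdeal f rfl)) := by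
  classical
  refine ⟨map_injective η _, fun y => ?_⟩
  obtain ⟨x, hx⟩ := h.2 (Pi.single q y)
  refine ⟨x _, ?_⟩
  have := congrFun hx q
  rwa [Nmap_apply, Pi.single_eq_same] at this

end Points

section M

variable {A B : Type u} [CommRing A] [CommRing B]

lemma mem_M_iff (x : η.N A) : x ∈ η.M A ↔ ∀ (R : Type u) [CommRing R] [IsDomain R] [ValuationRing R],
    η.InV R → ∀ g : A →+* R, ∃ r : R, ∀ q : PrimeSpectrum R,
      ev η ((algebraMap R q.asIdeal.ResidueField).comp g) x = η.eta _ (algebraMap R q.asIdeal.ResidueField r) := by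
  constructor
  · intro h R _ _ _ hR g
    obtain ⟨r, hr⟩ := h R hR g
    refine ⟨r, fun q => ?_⟩
    rw [← ev_Nmap, ← hr, ev_t]
  · intro h R _ _ _ hR g
    obtain ⟨r, hr⟩ := h R hR g
    exact ⟨r, N_ext η fun q => by rw [ev_t, ev_Nmap, hr]⟩

/-- The defining property at all field-valued points of the valuation ring. -/
lemma M_spec {x : η.N A} (hx : x ∈ η.M A) (R : Type u) [CommRing R] [IsDomain R] [ValuationRing R]
    (hR : η.InV R) (g : A →+* R) :
    ∃ r : R, ∀ (K : Type u) [Field K] (h : R →+* K), ev η (h.comp g) x = η.eta K (h r) := by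
  obtain ⟨r, hr⟩ := hx R hR g
  exact ⟨r, fun K _ h => by rw [← ev_Nmap, ← hr, ev_t]⟩

lemma Nmap_mem_M (f : A →+* B) {x : η.N A} (hx : x ∈ η.M A) : η.Nmap f x ∈ η.M B :=
  fun R _ _ _ hR g => by rw [Nmap_comp]; exact hx R hR (g.comp f)

/-- The induced map on pointwise rings. -/
noncomputable def Mmap (f : A →+* B) : η.M A →+* η.M B :=
  ((η.Nmap f).comp (η.M A).subtype).codRestrict (η.M B) fun x => Nmap_mem_M η f x.2

lemma Mmap_coe (f : A →+* B) (x : η.M A) : (Mmap η f x : η.N B) = η.Nmap f x := rfl

/-- A valuation subring centred at a given prime. -/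
lemma exists_centre {L : Type u} [Field L] (g : A →+* L) (P : PrimeSpectrum A) (h : RingHom.ker g ≤ P.asIdeal) :
    ∃ (V : ValuationSubring L) (g' : A →+* V), V.subtype.comp g' = g ∧
      (IsLocalRing.maximalIdeal V).comap g' = P.asIdeal := by
  let gP : Localization.AtPrime P.asIdeal →+* L := IsLocalization.lift (M := P.asIdeal.primeCompl) (g := g)
    fun s => isUnit_iff_ne_zero.mpr fun e => s.2 (h e)
  obtain ⟨V, hV, hloc⟩ := IsLocalRing.exists_factor_valuationRing gP
  let gV : Localization.AtPrime P.asIdeal →+* V := gP.codRestrict V.toSubring hV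
  refine ⟨V, gV.comp (algebraMap A _), RingHom.ext fun a => IsLocalization.lift_eq _ a, ?_⟩
  rw [← Ideal.comap_comap]
  have : (IsLocalRing.maximalIdeal V).comap gV = IsLocalRing.maximalIdeal _ :=
    ((IsLocalRing.local_hom_TFAE gV).out 0 4).mp hloc
  rw [this]
  exact IsLocalization.AtPrime.comap_maximalIdeal _ P.asIdeal

/-- An element of `M` is determined by its components at the minimal primes. -/
lemma eq_zero_of_le {x : η.N A} (hx : x ∈ η.M A) {p P : PrimeSpectrum A} (hle : p.asIdeal ≤ P.asIdeal)
    (h : x p = 0) : x P = 0 := by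
  let g := (η.eta p.asIdeal.ResidueField).comp (algebraMap A p.asIdeal.ResidueField)
  have hker : RingHom.ker g ≤ P.asIdeal := fun a ha => hle (by
    have h' : η.eta p.asIdeal.ResidueField (algebraMap A p.asIdeal.ResidueField a) = 0 := ha
    exact Ideal.algebraMap_residueField_eq_zero.mp ((map_eq_zero _).mp h'))
  obtain ⟨V, g', hg, hP⟩ := exists_centre g P hker
  obtain ⟨r, hr⟩ := M_spec η hx V (inV_of_bijective η V _ (bijective_eta_obj η p.asIdeal.ResidueField)) g'
  have h1 := hr _ V.subtype
  rw [hg, ev_field, ev_can, h, map_zero] at h1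
  have hr0 : r = 0 := Subtype.ext ((η.eta _).injective (h1.symm.trans (map_zero _).symm))
  have h2 := hr _ (IsLocalRing.residue V)
  rw [hr0, map_zero, map_zero] at h2
  have h3 : pt ((IsLocalRing.residue V).comp g') = P := PrimeSpectrum.ext (by
    show RingHom.ker _ = _
    rw [← RingHom.comap_ker, IsLocalRing.ker_residue, hP])
  have h4 : x (pt ((IsLocalRing.residue V).comp g')) = 0 := map_injective η _ (h2.trans (map_zero _).symm)
  rwa [h3] at h4

lemma M_ext {x y : η.N A} (hx : x ∈ η.M A) (hy : y ∈ η.M A)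
    (h : ∀ p : PrimeSpectrum A, p.asIdeal ∈ minimalPrimes A → x p = y p) : x = y := funext fun P => by
  obtain ⟨p, hp, hle⟩ := Ideal.exists_minimalPrimes_le (I := (⊥ : Ideal A)) (J := P.asIdeal) bot_le
  haveI := hp.1.1
  refine sub_eq_zero.mp (eq_zero_of_le η (Subring.sub_mem _ hx hy) (p := ⟨p, hp.1.1⟩) hle ?_)
  rw [Pi.sub_apply, h _ hp, sub_self]

/-- The values of elements of `M` are integral. -/
lemma isIntegralElem_of_mem {x : η.N A} (hx : x ∈ η.M A) {L : Type u} [Field L]
    (hL : Function.Bijective (η.eta L)) (g : A →+* L) :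
    ∃ y : L, η.eta L y = ev η g x ∧ g.IsIntegralElem y := by
  obtain ⟨y, hy⟩ := hL.2 (ev η g x)
  refine ⟨y, hy, ?_⟩
  letI := g.toAlgebra
  by_contra hni
  have hni' : ¬ IsIntegral A y := hni
  haveI : IsIntegrallyClosedIn (integralClosure A L).toSubring L := by
    rw [Subring.isIntegrallyClosedIn_iff]
    intro z hz
    exact isIntegral_trans (R := A) (A := integralClosure A L) z hz
  obtain ⟨V, hV, hyV⟩ := Subring.exists_le_valuationSubring_of_isIntegrallyClosedIn
    (R := (integralClosure A L).toSubring) (x := y) hni'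
  let g' : A →+* V := g.codRestrict V.toSubring fun a => hV (isIntegral_algebraMap (R := A) (x := a))
  obtain ⟨r, hr⟩ := M_spec η hx V (inV_of_bijective η V L hL) g'
  have h1 := hr L V.subtype
  rw [show V.subtype.comp g' = g from rfl, ← hy] at h1
  exact hyV (hL.1 h1 ▸ r.2)

/-- Over a ring with finitely many minimal primes the pointwise ring is integral. -/
theorem isIntegral_q (hA : (minimalPrimes A).Finite) : (η.q A).IsIntegral := by
  classical
  intro x
  have key : ∀ p : PrimeSpectrum A, ∃ f : Polynomial A, f.Monic ∧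
      f.eval₂ ((η.eta p.asIdeal.ResidueField).comp (algebraMap A _)) ((x : η.N A) p) = 0 := by
    intro p
    obtain ⟨y, hy, f, hf, hfy⟩ := isIntegralElem_of_mem η x.2 (bijective_eta_obj η p.asIdeal.ResidueField)
      ((η.eta p.asIdeal.ResidueField).comp (algebraMap A _))
    rw [ev_field, ev_can, map_eta_eq] at hy
    have hy' : y = (x : η.N A) p := (η.eta (η.obj p.asIdeal.ResidueField)).injective hy
    exact ⟨f, hf, by rw [← hy']; exact hfy⟩
  choose f hf hf0 using key
  let S : Set (PrimeSpectrum A) := {p | p.asIdeal ∈ minimalPrimes A}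
  have hS : S.Finite := hA.preimage (Function.Injective.injOn fun p q h => PrimeSpectrum.ext h)
  refine ⟨∏ p ∈ hS.toFinset, f p, Polynomial.monic_prod_of_monic _ _ fun p _ => hf p, Subtype.ext ?_⟩
  refine M_ext η (Subtype.prop _) (η.M A).zero_mem fun p hp => ?_
  have : ((Pi.evalRingHom (fun p : PrimeSpectrum A => η.obj p.asIdeal.ResidueField) p).comp (η.M A).subtype)
      (Polynomial.eval₂ (η.q A) x (∏ p ∈ hS.toFinset, f p)) = 0 := by
    rw [Polynomial.hom_eval₂]
    rw [Polynomial.eval₂_finsetProd]
    exact Finset.prod_eq_zero (i := p) (hS.mem_toFinset.mpr hp) (hf0 p)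
  exact this

/-- The prime of `M` over a prime of `A`. -/
noncomputable def evM (P : PrimeSpectrum A) : η.M A →+* η.obj P.asIdeal.ResidueField :=
  (Pi.evalRingHom (fun p : PrimeSpectrum A => η.obj p.asIdeal.ResidueField) P).comp (η.M A).subtype

lemma evM_comp_q (P : PrimeSpectrum A) :
    (evM η P).comp (η.q A) = (η.eta P.asIdeal.ResidueField).comp (algebraMap A _) := rfl

lemma comap_pt_evM (P : PrimeSpectrum A) : PrimeSpectrum.comap (η.q A) (pt (evM η P)) = P :=
  PrimeSpectrum.ext (by
    show (RingHom.ker (evM η P)).comap (η.q A) = P.asIdeal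
    rw [RingHom.comap_ker, evM_comp_q, ← RingHom.comap_ker,
      (RingHom.injective_iff_ker_eq_bot _).mp (η.eta P.asIdeal.ResidueField).injective]
    exact P.asIdeal.ker_algebraMap_residueField)

/-- A prime of `M` is the kernel of the evaluation at the prime below it. -/
theorem mem_prime_iff (hA : (minimalPrimes A).Finite) (Q : PrimeSpectrum (η.M A)) (x : η.M A) :
    x ∈ Q.asIdeal ↔ (x : η.N A) (PrimeSpectrum.comap (η.q A) Q) = 0 := by
  classical
  let S : Set (PrimeSpectrum A) := {p | p.asIdeal ∈ minimalPrimes A}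
  have hS : S.Finite := hA.preimage (Function.Injective.injOn fun p q h => PrimeSpectrum.ext h)
  have hle : hS.toFinset.inf (fun p => RingHom.ker (evM η p)) ≤ Q.asIdeal := fun z hz => by
    rw [Submodule.mem_finsetInf] at hz
    have : z = 0 := Subtype.ext (M_ext η z.2 (η.M A).zero_mem fun p hp => hz p (hS.mem_toFinset.mpr hp))
    rw [this]; exact zero_mem _
  obtain ⟨p, -, hp⟩ := (Q.isPrime.inf_le' (s := hS.toFinset) (f := fun p => RingHom.ker (evM η p))).mp hle
  obtain ⟨V, h', hh, hQ⟩ := exists_centre (evM η p) Q hp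
  obtain ⟨r, hr⟩ := M_spec η x.2 V (inV_of_bijective η V _ (bijective_eta_obj η p.asIdeal.ResidueField)) (h'.comp (η.q A))
  have h1 := hr _ V.subtype
  rw [← RingHom.comp_assoc, hh, evM_comp_q, ev_field, ev_can, map_eta_eq] at h1
  have hxr : h' x = r :=
    Subtype.ext ((RingHom.congr_fun hh x).trans ((η.eta (η.obj p.asIdeal.ResidueField)).injective h1))
  have h2 := hr _ (IsLocalRing.residue V)
  have h3 : pt ((IsLocalRing.residue V).comp (h'.comp (η.q A))) = PrimeSpectrum.comap (η.q A) Q :=
    PrimeSpectrum.ext (by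
      show RingHom.ker _ = Q.asIdeal.comap _
      rw [← RingHom.comp_assoc, ← RingHom.comap_ker, ← RingHom.comap_ker, IsLocalRing.ker_residue, hQ])
  rw [← h3, ← hQ, Ideal.mem_comap, ← IsLocalRing.residue_eq_zero_iff, hxr]
  constructor
  · intro e
    rw [e, map_zero] at h2
    exact map_injective η _ (h2.trans (map_zero _).symm)
  · intro e
    refine (η.eta (IsLocalRing.ResidueField V)).injective ?_
    rw [← h2, map_zero]
    show η.map _ _ = 0
    rw [show (Pi.evalRingHom (fun p : PrimeSpectrum A => η.obj p.asIdeal.ResidueField) _) (x : η.N A) = 0 from e,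
      map_zero]

theorem bijective_comap_q (hA : (minimalPrimes A).Finite) : Function.Bijective (PrimeSpectrum.comap (η.q A)) := by
  refine ⟨fun Q Q' h => PrimeSpectrum.ext (Ideal.ext fun x => ?_), fun P => ⟨_, comap_pt_evM η P⟩⟩
  rw [mem_prime_iff η hA, mem_prime_iff η hA, h]

lemma exists_factor_res (f : A →+* B) (q : PrimeSpectrum B) {K : Type u} [Field K] (φ : B →+* K)
    (hφ : RingHom.ker φ = q.asIdeal) (e : (PrimeSpectrum.comap f q).asIdeal.ResidueField →+* K)
    (h : φ.comp f = e.comp (algebraMap A _)) : ∃ ψ : q.asIdeal.ResidueField →+* K,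
      ψ.comp (Ideal.ResidueField.map (PrimeSpectrum.comap f q).asIdeal q.asIdeal f rfl) = e := by
  refine ⟨Ideal.ResidueField.lift _ φ hφ.ge fun b hb => isUnit_iff_ne_zero.mpr fun e' => hb (hφ.le e'),
    Ideal.ResidueField.ringHom_ext (RingHom.ext fun a => ?_)⟩
  simp only [RingHom.comp_apply, Ideal.ResidueField.map_algebraMap, Ideal.ResidueField.lift_algebraMap]
  exact RingHom.congr_fun h a

theorem exists_factor_q (hA : (minimalPrimes A).Finite) (Q : PrimeSpectrum (η.M A)) :
    ∃ φ : Q.asIdeal.ResidueField →+* η.obj (PrimeSpectrum.comap (η.q A) Q).asIdeal.ResidueField,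
      φ.comp (Ideal.ResidueField.map (PrimeSpectrum.comap (η.q A) Q).asIdeal Q.asIdeal (η.q A) rfl) =
        η.eta (PrimeSpectrum.comap (η.q A) Q).asIdeal.ResidueField :=
  exists_factor_res (η.q A) Q (evM η _) (Ideal.ext fun x => (mem_prime_iff η hA Q x).symm) _ (evM_comp_q η _)

theorem bijective_Nmap_q (hA : (minimalPrimes A).Finite) : Function.Bijective (η.Nmap (η.q A)) := by
  refine Nmap_bijective_of η _ (bijective_comap_q η hA) fun Q => ?_
  obtain ⟨φ, hφ⟩ := exists_factor_q η hA Q
  exact bijective_map_of_factor η _ φ hφ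

/-- Points of `B` with values in fields where `η` is bijective extend along maps with `Nmap` bijective. -/
lemma exists_extend (f : A →+* B) (hN : Function.Bijective (η.Nmap f)) {L : Type u} [Field L]
    (hL : Function.Bijective (η.eta L)) (g : A →+* L) : ∃ g' : B →+* L, g'.comp f = g := by
  refine ⟨(RingEquiv.ofBijective _ hL).symm.toRingHom.comp
    ((ev η g).comp ((RingEquiv.ofBijective _ hN).symm.toRingHom.comp (η.t B))), RingHom.ext fun a => ?_⟩
  refine (RingEquiv.ofBijective _ hL).injective ?_
  have : (RingEquiv.ofBijective _ hN).symm (η.t B (f a)) = η.t A a :=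
    (RingEquiv.ofBijective _ hN).injective (by
      rw [RingEquiv.apply_symm_apply]; exact (η.Nmap_t_apply f a).symm)
  simp only [RingHom.comp_apply, RingEquiv.toRingHom_eq_coe, RingEquiv.coe_toRingHom,
    RingEquiv.apply_symm_apply, this]
  exact ev_t η g a

theorem exists_factor_valuation (f : A →+* B) (hf : f.IsIntegral) (hN : Function.Bijective (η.Nmap f))
    (R : Type u) [CommRing R] [IsDomain R] [ValuationRing R] (hR : η.InV R) (g : A →+* R) :
    ∃ g' : B →+* R, g'.comp f = g := by
  obtain ⟨g₀, hg₀⟩ := exists_extend η f hN hR ((algebraMap R (FractionRing R)).comp g)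
  have hmem : ∀ b, ∃ r, algebraMap R (FractionRing R) r = g₀ b := fun b => by
    refine IsIntegrallyClosed.algebraMap_eq_of_integral (R := R) ?_
    obtain ⟨P, hP, hPb⟩ := hf b
    refine ⟨P.map g, hP.map g, ?_⟩
    rw [Polynomial.eval₂_map, ← hg₀, ← Polynomial.hom_eval₂, hPb, map_zero]
  choose g' hg' using hmem
  have hinj := IsFractionRing.injective R (FractionRing R)
  refine ⟨⟨⟨⟨g', hinj (by rw [hg', map_one, map_one])⟩, fun a b => hinj (by rw [map_mul, hg', hg', hg', map_mul])⟩,
    hinj (by rw [hg', map_zero, map_zero]), fun a b => hinj (by rw [map_add, hg', hg', hg', map_add])⟩,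
    RingHom.ext fun a => hinj ?_⟩
  exact (hg' (f a)).trans (RingHom.congr_fun hg₀ a)

theorem bijOn_M (f : A →+* B) (hf : f.IsIntegral) (hN : Function.Bijective (η.Nmap f)) :
    Set.BijOn (η.Nmap f) (η.M A) (η.M B) := by
  refine ⟨fun x hx => Nmap_mem_M η f hx, hN.1.injOn, fun y hy => ?_⟩
  obtain ⟨x, rfl⟩ := hN.2 y
  refine ⟨x, fun R _ _ _ hR g => ?_, rfl⟩
  obtain ⟨g', rfl⟩ := exists_factor_valuation η f hf hN R hR g
  rw [← Nmap_comp]
  exact hy R hR g'

theorem existsUnique_lift (g : A →+* B) (hg : g.IsIntegral) (hN : Function.Bijective (η.Nmap g)) :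
    ∃! g' : B →+* η.M A, g'.comp g = η.q A := by
  let e := RingEquiv.ofBijective _ hN
  have hmem : ∀ b, e.symm (η.t B b) ∈ η.M A := fun b => by
    obtain ⟨x, hx, hx'⟩ := (bijOn_M η g hg hN).surjOn (η.t_mem_M B b)
    rwa [show e.symm (η.t B b) = x from e.injective (by rw [e.apply_symm_apply]; exact hx'.symm)]
  refine ⟨(e.symm.toRingHom.comp (η.t B)).codRestrict (η.M A) hmem, RingHom.ext fun a => Subtype.ext ?_,
    fun h hh => RingHom.ext fun b => Subtype.ext (funext fun P => ?_)⟩
  · exact e.injective ((e.apply_symm_apply _).trans (η.Nmap_t_apply g a).symm)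
  · have h1 : (evM η P).comp h = ((evM η P).comp ((e.symm.toRingHom.comp (η.t B)).codRestrict (η.M A) hmem)) := by
      refine ev_ext_of_Nmap_surjective η g hN.2 ?_
      rw [RingHom.comp_assoc, hh]
      refine RingHom.ext fun a => ?_
      show _ = e.symm (η.t B (g a)) P
      rw [show e.symm (η.t B (g a)) = η.t A a from e.injective ((e.apply_symm_apply _).trans (η.Nmap_t_apply g a).symm)]
      rfl
    exact RingHom.congr_fun h1 b

/-- The two maps `M A → M (M A)` coincide. -/
theorem Nmap_q_eq_t (hA : (minimalPrimes A).Finite) (x : η.M A) :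
    η.Nmap (η.q A) (x : η.N A) = η.t (η.M A) x := funext fun Q => by
  obtain ⟨φ, hφ⟩ := exists_factor_res (η.q A) Q (evM η _)
    (Ideal.ext fun y => (mem_prime_iff η hA Q y).symm) _ (evM_comp_q η _)
  refine map_injective η φ ?_
  rw [Nmap_apply, map_map, hφ, map_eta_eq]
  show _ = η.map φ (η.eta _ (algebraMap (η.M A) _ x))
  rw [map_eta_apply]
  congr 1
  obtain ⟨z, hz⟩ : ∃ z, z = PrimeSpectrum.comap (η.q A) Q := ⟨_, rfl⟩
  have hφ' : φ.comp (algebraMap (η.M A) Q.asIdeal.ResidueField) = evM η (PrimeSpectrum.comap (η.q A) Q) :=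
    ev_ext_of_Nmap_surjective η (η.q A) (bijective_Nmap_q η hA).2 (by
      rw [evM_comp_q, ← hφ, RingHom.comp_assoc, RingHom.comp_assoc]
      congr 1
      ext a
      exact (Ideal.ResidueField.map_algebraMap _ _ (η.q A) rfl a).symm)
  exact (RingHom.congr_fun hφ' x).symm

theorem bijective_q_M (hA : (minimalPrimes A).Finite) : Function.Bijective (η.q (η.M A)) := by
  constructor
  · intro x y h
    refine Subtype.ext ((bijective_Nmap_q η hA).1 ?_)
    rw [Nmap_q_eq_t η hA, Nmap_q_eq_t η hA]
    exact congrArg Subtype.val h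
  · intro y
    obtain ⟨x, hx, hxy⟩ := (bijOn_M η (η.q A) (isIntegral_q η hA) (bijective_Nmap_q η hA)).surjOn y.2
    exact ⟨⟨x, hx⟩, Subtype.ext ((Nmap_q_eq_t η hA ⟨x, hx⟩).symm.trans hxy)⟩

lemma t_injective [IsReduced A] : Function.Injective (η.t A) := by
  rw [injective_iff_map_eq_zero]
  intro a ha
  refine (nilpotent_iff_mem_prime.mpr fun J hJ => ?_ : IsNilpotent a).eq_zero
  have := congrFun ha ⟨J, hJ⟩
  exact Ideal.algebraMap_residueField_eq_zero.mp ((η.eta _).injective (this.trans (map_zero _).symm))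

theorem bijective_of_Nmap_bijective (hA : (minimalPrimes A).Finite) [IsReduced B] (f : η.M A →+* B)
    (hf : f.IsIntegral) (hN : Function.Bijective (η.Nmap f)) : Function.Bijective f := by
  constructor
  · intro x y h
    refine (bijective_q_M η hA).1 (Subtype.ext (hN.1 ?_))
    show η.Nmap f (η.t _ x) = η.Nmap f (η.t _ y)
    rw [η.Nmap_t_apply, η.Nmap_t_apply, h]
  · intro b
    obtain ⟨z, hz, hzb⟩ := (bijOn_M η f hf hN).surjOn (η.t_mem_M B b)
    obtain ⟨x, hx⟩ := (bijective_q_M η hA).2 ⟨z, hz⟩
    refine ⟨x, t_injective η ?_⟩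
    rw [← η.Nmap_t_apply, ← hzb]
    exact congrArg _ (congrArg Subtype.val hx)

end M

end Groth.Agent.EtaLib
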