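import Groth.Agent.EtaLib.Basic
import Mathlib.RingTheory.Nilpotent.Lemmas
import Mathlib.RingTheory.Ideal.GoingUp
import Mathlib.RingTheory.IntegralClosure.Algebra.Basic

/-!
The relative pointwise ring `(B/A)_η`.
-/

set_option autoImplicit false

universe u

open EtaPt

namespace Groth.Agent.EtaLib

variable (η : FieldEndo.{u}) {A B C : Type u} [CommRing A] [CommRing B] [CommRing C]

lemma mem_rel_iff (f : A →+* B) (b : B) : b ∈ η.rel f ↔ ∃ x ∈ η.M A, η.Nmap f x = η.t B b := Iff.rfl

/-- `(B/A)_η → M η A`. -/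
noncomputable def relToM (f : A →+* B) (hs : Function.Surjective (PrimeSpectrum.comap f)) :
    η.rel f →+* η.M A :=
  have key : ∀ b : η.rel f, ∃ x : η.M A, η.Nmap f (x : η.N A) = η.t B b := fun b =>
    let ⟨x, hx, h⟩ := b.2; ⟨⟨x, hx⟩, h⟩
  { toFun := fun b => (key b).choose
    map_one' := Subtype.ext (Nmap_injective η f hs (by
      rw [(key 1).choose_spec]; simp))
    map_mul' := fun b c => Subtype.ext (Nmap_injective η f hs (by
      rw [(key (b * c)).choose_spec, Subring.coe_mul, Subring.coe_mul, map_mul, map_mul,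
        (key b).choose_spec, (key c).choose_spec]))
    map_zero' := Subtype.ext (Nmap_injective η f hs (by
      rw [(key 0).choose_spec]; simp))
    map_add' := fun b c => Subtype.ext (Nmap_injective η f hs (by
      rw [(key (b + c)).choose_spec, Subring.coe_add, Subring.coe_add, map_add, map_add,
        (key b).choose_spec, (key c).choose_spec])) }

lemma relToM_spec (f : A →+* B) (hs : Function.Surjective (PrimeSpectrum.comap f)) (b : η.rel f) :
    η.Nmap f (relToM η f hs b : η.N A) = η.t B b :=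
  (let ⟨x, hx, h⟩ := b.2; ⟨⟨x, hx⟩, h⟩ : ∃ x : η.M A, η.Nmap f (x : η.N A) = η.t B b).choose_spec

lemma relToM_comp (f : A →+* B) (hs : Function.Surjective (PrimeSpectrum.comap f)) :
    (relToM η f hs).comp (η.qRel f) = η.q A :=
  RingHom.ext fun a => Subtype.ext (Nmap_injective η f hs
    ((relToM_spec η f hs (η.qRel f a)).trans (η.Nmap_t_apply f a).symm))

lemma isNilpotent_of_t_eq_zero {b : B} (h : η.t B b = 0) : IsNilpotent b :=
  nilpotent_iff_mem_prime.mpr fun J hJ =>
    Ideal.algebraMap_residueField_eq_zero.mp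
      ((η.eta _).injective ((congrFun h ⟨J, hJ⟩).trans (map_zero _).symm))

lemma isNilpotent_of_relToM_eq_zero (f : A →+* B) (hs : Function.Surjective (PrimeSpectrum.comap f))
    {b : η.rel f} (h : relToM η f hs b = 0) : IsNilpotent b := by
  have h1 := relToM_spec η f hs b
  rw [h] at h1
  obtain ⟨k, hk⟩ := isNilpotent_of_t_eq_zero η (h1.symm.trans (map_zero _))
  exact ⟨k, Subtype.ext hk⟩

theorem isIntegral_qRel (hA : (minimalPrimes A).Finite) (f : A →+* B)
    (hs : Function.Surjective (PrimeSpectrum.comap f)) : (η.qRel f).IsIntegral := by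
  intro b
  obtain ⟨G, hG, hG0⟩ := isIntegral_q η hA (relToM η f hs b)
  have h1 : relToM η f hs (G.eval₂ (η.qRel f) b) = 0 := by
    rw [Polynomial.hom_eval₂, relToM_comp]; exact hG0
  obtain ⟨k, hk⟩ := isNilpotent_of_relToM_eq_zero η f hs h1
  exact ⟨G ^ k, hG.pow k, by rw [Polynomial.eval₂_pow, hk]⟩

lemma surjective_comap_relToM (hA : (minimalPrimes A).Finite) (f : A →+* B)
    (hs : Function.Surjective (PrimeSpectrum.comap f)) :
    Function.Surjective (PrimeSpectrum.comap (relToM η f hs)) := by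
  intro Q
  letI := (relToM η f hs).toAlgebra
  haveI : Algebra.IsIntegral (η.rel f) (η.M A) := ⟨fun x => by
    have h := isIntegral_q η hA
    rw [← relToM_comp η f hs] at h
    exact RingHom.IsIntegral.tower_top (η.qRel f) _ h x⟩
  obtain ⟨P, hP, hPQ⟩ := Ideal.exists_ideal_over_prime_of_isIntegral Q.asIdeal (⊥ : Ideal (η.M A))
    (fun b hb => by
      obtain ⟨k, hk⟩ := isNilpotent_of_relToM_eq_zero η f hs (b := b) hb
      exact Q.isPrime.mem_of_pow_mem k (hk ▸ Q.asIdeal.zero_mem))
  exact ⟨⟨P, hPQ.1⟩, PrimeSpectrum.ext hPQ.2⟩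

theorem bijective_comap_qRel (hA : (minimalPrimes A).Finite) (f : A →+* B)
    (hs : Function.Surjective (PrimeSpectrum.comap f)) : Function.Bijective (PrimeSpectrum.comap (η.qRel f)) := by
  have hb := bijective_comap_q η hA
  rw [← relToM_comp η f hs] at hb
  refine ⟨fun a b h => ?_, fun P => ?_⟩
  · obtain ⟨a', rfl⟩ := surjective_comap_relToM η hA f hs a
    obtain ⟨b', rfl⟩ := surjective_comap_relToM η hA f hs b
    exact congrArg _ (hb.1 h)
  · obtain ⟨Q, hQ⟩ := hb.2 P
    exact ⟨PrimeSpectrum.comap (relToM η f hs) Q, (PrimeSpectrum.comap_comp_apply _ _ Q).symm.trans hQ⟩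

theorem exists_factor_qRel (hA : (minimalPrimes A).Finite) (f : A →+* B)
    (hs : Function.Surjective (PrimeSpectrum.comap f)) (Q : PrimeSpectrum (η.rel f)) :
    ∃ φ : Q.asIdeal.ResidueField →+* η.obj (PrimeSpectrum.comap (η.qRel f) Q).asIdeal.ResidueField,
      φ.comp (Ideal.ResidueField.map (PrimeSpectrum.comap (η.qRel f) Q).asIdeal Q.asIdeal (η.qRel f) rfl) =
        η.eta (PrimeSpectrum.comap (η.qRel f) Q).asIdeal.ResidueField := by
  set P := PrimeSpectrum.comap (η.qRel f) Q
  have hc : ((evM η P).comp (relToM η f hs)).comp (η.qRel f) = (η.eta _).comp (algebraMap A _) := by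
    rw [RingHom.comp_assoc, relToM_comp]; exact evM_comp_q η P
  refine exists_factor_res (η.qRel f) Q _ ?_ _ hc
  exact congrArg PrimeSpectrum.asIdeal ((bijective_comap_qRel η hA f hs).1
    (show PrimeSpectrum.comap (η.qRel f) (pt ((evM η P).comp (relToM η f hs))) = P from PrimeSpectrum.ext (by
      show (RingHom.ker _).comap _ = _
      rw [RingHom.comap_ker, hc, ← RingHom.comap_ker,
        (RingHom.injective_iff_ker_eq_bot _).mp (η.eta P.asIdeal.ResidueField).injective]
      exact P.asIdeal.ker_algebraMap_residueField)))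

theorem bijective_Nmap_qRel (hA : (minimalPrimes A).Finite) (f : A →+* B)
    (hs : Function.Surjective (PrimeSpectrum.comap f)) : Function.Bijective (η.Nmap (η.qRel f)) :=
  Nmap_bijective_of η _ (bijective_comap_qRel η hA f hs) fun Q =>
    let ⟨φ, hφ⟩ := exists_factor_qRel η hA f hs Q
    bijective_map_of_factor η _ φ hφ

theorem range_le_rel (f₁ : A →+* B) (f₂ : B →+* C) (h₁ : f₁.IsIntegral)
    (hN : Function.Bijective (η.Nmap f₁)) : f₂.range ≤ η.rel (f₂.comp f₁) := by
  rintro _ ⟨b, rfl⟩
  obtain ⟨x, hx, hxb⟩ := (bijOn_M η f₁ h₁ hN).surjOn (η.t_mem_M B b)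
  refine (mem_rel_iff η _ _).mpr ⟨x, hx, ?_⟩
  rw [← Nmap_comp, hxb, η.Nmap_t_apply]

lemma qRel_bijective_iff (f : A →+* B) :
    Function.Bijective (η.qRel f) ↔ Function.Injective f ∧ ∀ b ∈ η.rel f, ∃ a, f a = b :=
  ⟨fun h => ⟨fun a b e => h.1 (Subtype.ext e), fun b hb =>
      let ⟨a, ha⟩ := h.2 ⟨b, hb⟩; ⟨a, congrArg Subtype.val ha⟩⟩,
    fun h => ⟨fun a b e => h.1 (congrArg Subtype.val e), fun b =>
      let ⟨a, ha⟩ := h.2 b.1 b.2; ⟨a, Subtype.ext ha⟩⟩⟩

/-- Compatibility of `rel` with commutative squares. -/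
lemma mem_rel_of_square {A' B' : Type u} [CommRing A'] [CommRing B'] (j : A →+* B) (f : A →+* A')
    (g : B →+* B') (j' : A' →+* B') (hcomm : j'.comp f = g.comp j) {b : B} (hb : b ∈ η.rel j) :
    g b ∈ η.rel j' := by
  obtain ⟨x, hx, hxb⟩ := (mem_rel_iff η _ _).mp hb
  refine (mem_rel_iff η _ _).mpr ⟨η.Nmap f x, Nmap_mem_M η f hx, ?_⟩
  rw [Nmap_comp, hcomm, ← Nmap_comp, hxb, η.Nmap_t_apply]

lemma bijective_map_residue_away {S : Type u} [CommRing S] [Algebra A S] (M : Submonoid A)
    [IsLocalization M S] (q : PrimeSpectrum S) : Function.Bijective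
      (η.map (Ideal.ResidueField.map (PrimeSpectrum.comap (algebraMap A S) q).asIdeal q.asIdeal (algebraMap A S) rfl)) := by
  have hb := (RingHom.surjectiveOnStalks_of_isLocalization M S).residueFieldMap_bijective
    (PrimeSpectrum.comap (algebraMap A S) q).asIdeal q.asIdeal rfl
  refine bijective_map_of_factor η _ ((η.eta _).comp (RingEquiv.ofBijective _ hb).symm.toRingHom) ?_
  refine RingHom.ext fun x => ?_
  simp only [RingHom.comp_apply, RingEquiv.toRingHom_eq_coe, RingEquiv.coe_toRingHom]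
  exact congrArg _ ((RingEquiv.ofBijective _ hb).symm_apply_apply x)

lemma bijective_map_residue_surjective (f : A →+* B) (hf : Function.Surjective f) (q : PrimeSpectrum B) :
    Function.Bijective (η.map (Ideal.ResidueField.map (PrimeSpectrum.comap f q).asIdeal q.asIdeal f rfl)) := by
  have hb := (RingHom.surjectiveOnStalks_of_surjective hf).residueFieldMap_bijective
    (PrimeSpectrum.comap f q).asIdeal q.asIdeal rfl
  refine bijective_map_of_factor η _ ((η.eta _).comp (RingEquiv.ofBijective _ hb).symm.toRingHom) ?_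
  refine RingHom.ext fun x => ?_
  simp only [RingHom.comp_apply, RingEquiv.toRingHom_eq_coe, RingEquiv.coe_toRingHom]
  exact congrArg _ ((RingEquiv.ofBijective _ hb).symm_apply_apply x)

lemma Nmap_surjective_of_surjective (f : A →+* B) (hf : Function.Surjective f) :
    Function.Surjective (η.Nmap f) :=
  Nmap_surjective_of η f (PrimeSpectrum.comap_injective_of_surjective f hf)
    (bijective_map_residue_surjective η f hf)

end Groth.Agent.EtaLib
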